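import Groth.Agent.Lib.GrpQ.FlatHom
import Groth.Agent.Lib.GrpQ.RedSubgroup
import Groth.Agent.Lib.SmWeil.AffHull
import Groth.Agent.Lib.SmWeil.CartanOpen
import Groth.Agent.H1.Classical.Smooth
import Groth.Agent.Lib.Flat55.FibreTransfer
import Groth.Agent.Lib.FreeRes.SubGrp

/-!
# Inverse images of smooth or connected subgroups along a faithfully flat homomorphism
-/

set_option autoImplicit false
set_option linter.style.haveILetI false
set_option linter.unusedSectionVars false
set_option backward.isDefEq.respectTransparency false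
set_option synthInstance.maxHeartbeats 200000
set_option maxHeartbeats 1000000

universe u

open CategoryTheory CategoryTheory.Limits AlgebraicGeometry MonoidalCategory CartesianMonoidalCategory
open CategoryTheory.MonObj CategoryTheory.GrpObj
open Groth.Agent.Lib Groth.Agent.H87

namespace Groth.Agent.H13.PreimSmooth

section Grp

variable {S : Scheme.{u}} {G G' H' P : Over S} [GrpObj G] [GrpObj G'] [GrpObj H']

/-- The inverse image of a subgroup is a subgroup. -/
theorem exists_grpObj (u : G ⟶ G') [IsMonHom u] (h' : H' ⟶ G') [IsMonHom h'] [Mono h']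
    (p₁ : P ⟶ H') (p₂ : P ⟶ G) (hP : IsPullback p₁ p₂ h' u) :
    ∃ _ : GrpObj P, IsMonHom p₁ ∧ IsMonHom p₂ := by
  haveI : Mono p₂ := hP.mono_snd_of_mono
  obtain ⟨hg, hm⟩ := FreeRes.exists_grpObj_of_mono p₂
    (fun T => ⟨hP.lift 1 1 (by rw [MonObj.one_comp, MonObj.one_comp]), hP.lift_snd _ _ _⟩)
    (fun a b => ⟨hP.lift ((a ≫ p₁) * (b ≫ p₁)) ((a ≫ p₂) * (b ≫ p₂))
      (by simp only [MonObj.mul_comp, Category.assoc, hP.w]), hP.lift_snd _ _ _⟩)
    (fun a => ⟨hP.lift (a ≫ p₁)⁻¹ (a ≫ p₂)⁻¹
      (by simp only [GrpObj.inv_comp, Category.assoc, hP.w]), hP.lift_snd _ _ _⟩)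
  haveI := hm
  haveI : IsMonHom (p₁ ≫ h') := by rw [hP.w]; infer_instance
  exact ⟨hg, SmWeil.MaxTorusBC.isMonHom_of_mono_comp p₁ h', hm⟩

end Grp

section Field

variable {K : Type u} [Field K] [IsAlgClosed K] {G G' H' C' P Q : Over (Spec (CommRingCat.of K))}
  [GrpObj G] [GrpObj G'] [GrpObj H'] [GrpObj P] [LocallyOfFiniteType G.hom] [QuasiCompact G.hom]
  [LocallyOfFiniteType G'.hom] [LocallyOfFiniteType H'.hom] [QuasiCompact H'.hom]

theorem props (u : G ⟶ G') [IsMonHom u] [Flat u.left] [Surjective u.left] (h' : H' ⟶ G')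
    (p₁ : P ⟶ H') (p₂ : P ⟶ G) (hP : IsPullback p₁ p₂ h' u) :
    LocallyOfFiniteType P.hom ∧ QuasiCompact P.hom ∧ Flat p₁.left ∧ Surjective p₁.left ∧
      LocallyOfFinitePresentation p₁.left ∧ QuasiCompact p₁.left := by
  have sq : IsPullback p₁.left p₂.left h'.left u.left := hP.map (Over.forget _)
  haveI := GrpSch.isSeparated_of_field G'
  haveI : LocallyOfFinitePresentation G.hom := inferInstance
  haveI : LocallyOfFinitePresentation u.left :=
    Flat55.FibreTransfer.locallyOfFinitePresentation_of_comp (f := u.left) (g := G'.hom)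
      (by rw [Over.w u]; infer_instance) inferInstance
  haveI : QuasiCompact u.left := by
    haveI : QuasiCompact (u.left ≫ G'.hom) := by rw [Over.w u]; infer_instance
    exact QuasiCompact.of_comp u.left G'.hom
  haveI : LocallyOfFinitePresentation p₁.left := MorphismProperty.of_isPullback sq.flip inferInstance
  haveI : QuasiCompact p₁.left := MorphismProperty.of_isPullback sq.flip inferInstance
  refine ⟨?_, ?_, MorphismProperty.of_isPullback sq.flip inferInstance,
    MorphismProperty.of_isPullback sq.flip inferInstance, inferInstance, inferInstance⟩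
  · rw [← Over.w p₁]; infer_instance
  · rw [← Over.w p₁]; infer_instance

/-- Over an algebraically closed field, the inverse image of a smooth subgroup is smooth as soon as it
contains a smooth inverse image. -/
theorem smooth_field (u : G ⟶ G') [IsMonHom u] [Flat u.left] [Surjective u.left] (h' : H' ⟶ G') [IsMonHom h']
    [Mono h'] (c' : C' ⟶ G') (hc₁ : ∀ T, ∃ a : T ⟶ C', a ≫ c' = 1) (f : C' ⟶ H') (hf : f ≫ h' = c')
    (p₁ : P ⟶ H') (p₂ : P ⟶ G) [IsMonHom p₁] [IsMonHom p₂] (hP : IsPullback p₁ p₂ h' u)
    (q₁ : Q ⟶ C') (q₂ : Q ⟶ G) (hQ : IsPullback q₁ q₂ c' u) [Smooth Q.hom] [Smooth H'.hom] :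
    Smooth P.hom := by
  obtain ⟨hlft, hqc, hflat, hsurj, hlfp, hpqc⟩ := props u h' p₁ p₂ hP
  haveI := hlft; haveI := hqc; haveI := hflat; haveI := hsurj; haveI := hlfp; haveI := hpqc
  haveI : IsReduced Q.left := GrpSch.isReduced_of_smooth_field Q.hom
  haveI : IsReduced H'.left := GrpSch.isReduced_of_smooth_field H'.hom
  obtain ⟨R, _, r, hr, hcl, hrs, hred⟩ := GrpQ.RedSubgroup.exists_reduced_subgroup P
  haveI := hr; haveI := hcl; haveI := hrs; haveI := hred
  haveI : Mono r := Over.mono_of_mono_left _
  haveI : LocallyOfFiniteType R.hom := by rw [← Over.w r]; infer_instance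
  haveI : QuasiCompact R.hom := by rw [← Over.w r]; infer_instance
  let κ : R ⟶ H' := r ≫ p₁
  haveI : Surjective κ.left := inferInstanceAs (Surjective (r.left ≫ p₁.left))
  haveI : Flat κ.left := GrpQ.flat_of_surjective_of_isReduced κ
  haveI : QuasiCompact κ.left := inferInstanceAs (QuasiCompact (r.left ≫ p₁.left))
  -- the map from the known inverse image
  let j : Q ⟶ P := hP.lift (q₁ ≫ f) q₂ (by rw [Category.assoc, hf, hQ.w])
  obtain ⟨a', ha'⟩ : ∃ a' : Q ⟶ R, a' ≫ r = j := by
    haveI : IsIso (pullback.snd r.left j.left) := isIso_of_isClosedImmersion_of_surjective _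
    refine ⟨Over.homMk (inv (pullback.snd r.left j.left) ≫ pullback.fst r.left j.left) ?_,
      Over.OverMorphism.ext ?_⟩
    · rw [← Over.w r, Category.assoc, pullback.condition_assoc, IsIso.inv_hom_id_assoc, Over.w]
    · simp [pullback.condition]
  -- a cover on which the inclusion splits
  let W : Over (Spec (CommRingCat.of K)) := Over.mk (pullback.fst κ.left p₁.left ≫ R.hom)
  let a : W ⟶ R := Over.homMk (pullback.fst κ.left p₁.left) rfl
  let b : W ⟶ P := Over.homMk (pullback.snd κ.left p₁.left) (by
    show _ = pullback.fst κ.left p₁.left ≫ R.hom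
    rw [← Over.w κ, pullback.condition_assoc, Over.w p₁])
  have hab : a ≫ κ = b ≫ p₁ := Over.OverMorphism.ext pullback.condition
  let k : W ⟶ P := (a ≫ r)⁻¹ * b
  have hk : k ≫ p₁ = 1 := by
    simp only [k, MonObj.mul_comp, GrpObj.inv_comp, Category.assoc]
    rw [show a ≫ r ≫ p₁ = b ≫ p₁ from hab, inv_mul_cancel]
  obtain ⟨a₁, ha₁⟩ := hc₁ W
  let s : W ⟶ Q := hQ.lift a₁ (k ≫ p₂) (by
    rw [ha₁, Category.assoc, ← hP.w, ← Category.assoc, hk, MonObj.one_comp])
  have hs : s ≫ j = k := by
    refine hP.hom_ext ?_ ?_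
    · rw [Category.assoc, hP.lift_fst, hQ.lift_fst_assoc, hk, ← cancel_mono h', Category.assoc, hf, ha₁,
        MonObj.one_comp]
    · rw [Category.assoc, hP.lift_snd, hQ.lift_snd]
  let w : W ⟶ R := a * (s ≫ a')
  have hw : w ≫ r = b := by
    simp only [w, MonObj.mul_comp, Category.assoc, ha', hs, k, mul_inv_cancel_left]
  haveI : IsIso r.left := by
    let π : pullback κ.left p₁.left ⟶ P.left := pullback.snd κ.left p₁.left
    have hsec : w.left ≫ r.left = π := congrArg CommaMorphism.left hw
    have h1 : IsIso (pullback.fst π r.left) := by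
      haveI : IsSplitEpi (pullback.fst π r.left) :=
        ⟨⟨pullback.lift (𝟙 _) w.left (by rw [Category.id_comp, hsec]), pullback.lift_fst _ _ _⟩⟩
      exact isIso_of_mono_of_isSplitEpi _
    exact MorphismProperty.of_isPullback_of_descendsAlong (P := MorphismProperty.isomorphisms Scheme.{u})
      (Q := @Surjective ⊓ @Flat ⊓ @QuasiCompact) (IsPullback.of_hasPullback π r.left)
      ⟨⟨inferInstance, inferInstance⟩, inferInstance⟩ h1
  haveI : IsReduced P.left := isReduced_of_isOpenImmersion (inv r.left)
  haveI : GrpObj (Over.mk P.hom) := inferInstanceAs (GrpObj P)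
  exact H1.Classical.Smooth.smooth_of_isReduced P.hom

/-- Over an algebraically closed field, the inverse image of a connected subgroup is connected as soon as it
contains a connected inverse image. -/
theorem connected_field [GrpObj Q] (u : G ⟶ G') [IsMonHom u] [Flat u.left] [Surjective u.left] (h' : H' ⟶ G')
    [IsMonHom h'] [Mono h'] (c' : C' ⟶ G') (hc₁ : ∀ T, ∃ a : T ⟶ C', a ≫ c' = 1) (f : C' ⟶ H') (hf : f ≫ h' = c')
    (p₁ : P ⟶ H') (p₂ : P ⟶ G) [IsMonHom p₁] [IsMonHom p₂] (hP : IsPullback p₁ p₂ h' u)
    (q₁ : Q ⟶ C') (q₂ : Q ⟶ G) (hQ : IsPullback q₁ q₂ c' u) [ConnectedSpace Q.left] [ConnectedSpace H'.left] :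
    ConnectedSpace P.left := by
  obtain ⟨hlft, hqc, hflat, hsurj, hlfp, hpqc⟩ := props u h' p₁ p₂ hP
  haveI := hlft; haveI := hqc; haveI := hflat; haveI := hsurj; haveI := hlfp; haveI := hpqc
  let j : Q ⟶ P := hP.lift (q₁ ≫ f) q₂ (by rw [Category.assoc, hf, hQ.w])
  refine SmWeil.connectedSpace_of_kernel p₁ j fun x hx => ?_
  obtain ⟨a₁, ha₁⟩ := hc₁ (𝟙_ (Over (Spec (CommRingCat.of K))))
  refine ⟨hQ.lift a₁ (x ≫ p₂) (by rw [ha₁, Category.assoc, ← hP.w, ← Category.assoc, hx, MonObj.one_comp]),
    hP.hom_ext ?_ ?_⟩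
  · rw [Category.assoc, hP.lift_fst, hQ.lift_fst_assoc, hx, ← cancel_mono h', Category.assoc, hf, ha₁,
      MonObj.one_comp]
  · rw [Category.assoc, hP.lift_snd, hQ.lift_snd]

end Field

section Base

variable {S : Scheme.{u}} {G G' H' C' : Over S} [GrpObj G] [GrpObj G'] [GrpObj H'] [GrpObj C']
  [LocallyOfFinitePresentation G.hom] [QuasiCompact G.hom] [LocallyOfFiniteType G'.hom]
  [LocallyOfFiniteType H'.hom] [QuasiCompact H'.hom]
  (u : G ⟶ G') [IsMonHom u] (h' : H' ⟶ G') [IsMonHom h'] [Mono h'] (c' : C' ⟶ G') [IsMonHom c'] [Mono c']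
  (f : C' ⟶ H')

theorem smooth_of_le [Smooth H'.hom] [Flat u.left] [Surjective u.left] (hf : f ≫ h' = c')
    [Smooth (pullback c' u).hom] : Smooth (pullback h' u).hom := by
  have hP : IsPullback (pullback.fst h' u) (pullback.snd h' u) h' u := IsPullback.of_hasPullback _ _
  have hQ : IsPullback (pullback.fst c' u) (pullback.snd c' u) c' u := IsPullback.of_hasPullback _ _
  obtain ⟨_, hp₁, hp₂⟩ := exists_grpObj u h' _ _ hP
  have sq : IsPullback (pullback.fst h' u).left (pullback.snd h' u).left h'.left u.left := hP.map (Over.forget _)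
  haveI : LocallyOfFinitePresentation u.left :=
    Flat55.FibreTransfer.locallyOfFinitePresentation_of_comp (f := u.left) (g := G'.hom)
      (by rw [Over.w u]; infer_instance) inferInstance
  haveI : LocallyOfFinitePresentation (pullback.fst h' u).left :=
    MorphismProperty.of_isPullback sq.flip inferInstance
  haveI : Flat (pullback.fst h' u).left := MorphismProperty.of_isPullback sq.flip inferInstance
  haveI : LocallyOfFinitePresentation (pullback h' u).hom := by
    rw [← Over.w (pullback.fst h' u)]; infer_instance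
  haveI : Flat (pullback h' u).hom := by rw [← Over.w (pullback.fst h' u)]; infer_instance
  refine Smooth.of_smooth_fiberToSpecResidueField _ fun s => ?_
  let b := Red.geomPt s
  haveI : PreservesLimitsOfShape WalkingCospan (Over.pullback b) :=
    (Over.mapPullbackAdj b).rightAdjoint_preservesLimits.preservesLimitsOfShape
  haveI : LocallyOfFiniteType (Red.bc b G).hom :=
    MorphismProperty.pullback_snd (P := @LocallyOfFiniteType) _ _ inferInstance
  haveI : QuasiCompact (Red.bc b G).hom := MorphismProperty.pullback_snd (P := @QuasiCompact) _ _ inferInstance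
  haveI : LocallyOfFiniteType (Red.bc b G').hom :=
    MorphismProperty.pullback_snd (P := @LocallyOfFiniteType) _ _ inferInstance
  haveI : LocallyOfFiniteType (Red.bc b H').hom :=
    MorphismProperty.pullback_snd (P := @LocallyOfFiniteType) _ _ inferInstance
  haveI : QuasiCompact (Red.bc b H').hom := MorphismProperty.pullback_snd (P := @QuasiCompact) _ _ inferInstance
  haveI : Smooth (Red.bc b H').hom := MorphismProperty.pullback_snd (P := @Smooth) _ _ inferInstance
  haveI : Smooth (Red.bc b (pullback c' u)).hom := MorphismProperty.pullback_snd (P := @Smooth) _ _ inferInstance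
  haveI : Flat ((Over.pullback b).map u).left :=
    MorphismProperty.of_isPullback (Charts.isPullback_map b u) inferInstance
  haveI : Surjective ((Over.pullback b).map u).left :=
    MorphismProperty.of_isPullback (Charts.isPullback_map b u) inferInstance
  haveI : Mono ((Over.pullback b).map h') := inferInstance
  have key : Smooth (Red.bc b (pullback h' u)).hom :=
    smooth_field ((Over.pullback b).map u) ((Over.pullback b).map h') ((Over.pullback b).map c')
      (fun T => ⟨1, MonObj.one_comp _⟩) ((Over.pullback b).map f) (by rw [← Functor.map_comp, hf])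
      ((Over.pullback b).map (pullback.fst h' u)) ((Over.pullback b).map (pullback.snd h' u)) (hP.map _)
      ((Over.pullback b).map (pullback.fst c' u)) ((Over.pullback b).map (pullback.snd c' u)) (hQ.map _)
  let r : Spec (CommRingCat.of (AlgebraicClosure (S.residueField s))) ⟶ Spec (S.residueField s) :=
    Spec.map (CommRingCat.ofHom (algebraMap (S.residueField s) (AlgebraicClosure (S.residueField s))))
  haveI : Flat r := GrpSch.flat_of_isField (Field.toIsField _) _
  haveI : Surjective r := ⟨fun x => ⟨IsLocalRing.closedPoint _, Subsingleton.elim (α := PrimeSpectrum _) _ _⟩⟩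
  let P := pullback h' u
  have sq2 : IsPullback (pullback.snd (pullback.snd P.hom (S.fromSpecResidueField s)) r)
      (pullback.fst (pullback.snd P.hom (S.fromSpecResidueField s)) r) r
      (pullback.snd P.hom (S.fromSpecResidueField s)) := (IsPullback.of_hasPullback _ _).flip
  refine MorphismProperty.of_isPullback_of_descendsAlong (P := @Smooth)
    (Q := @Surjective ⊓ @Flat ⊓ @QuasiCompact) sq2 ⟨⟨inferInstance, inferInstance⟩, inferInstance⟩ ?_
  rw [← pullbackLeftPullbackSndIso_hom_snd P.hom (S.fromSpecResidueField s) r]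
  exact (MorphismProperty.cancel_left_of_respectsIso @Smooth _ _).2 key

theorem connected_of_le [Flat u.left] [Surjective u.left] (hf : f ≫ h' = c')
    (hQc : ∀ s : S, _root_.IsConnected ((pullback c' u).hom.base ⁻¹' {s}))
    (hHc : ∀ s : S, _root_.IsConnected (H'.hom.base ⁻¹' {s})) (s : S) :
    _root_.IsConnected ((pullback h' u).hom.base ⁻¹' {s}) := by
  have hP : IsPullback (pullback.fst h' u) (pullback.snd h' u) h' u := IsPullback.of_hasPullback _ _
  have hQ : IsPullback (pullback.fst c' u) (pullback.snd c' u) c' u := IsPullback.of_hasPullback _ _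
  obtain ⟨_, hp₁, hp₂⟩ := exists_grpObj u h' _ _ hP
  obtain ⟨_, hq₁, hq₂⟩ := exists_grpObj u c' _ _ hQ
  haveI := SmWeil.CartanOpen.geometricallyConnected_of_fibres _ hQc
  haveI := SmWeil.CartanOpen.geometricallyConnected_of_fibres _ hHc
  let b := Red.geomPt s
  haveI : PreservesLimitsOfShape WalkingCospan (Over.pullback b) :=
    (Over.mapPullbackAdj b).rightAdjoint_preservesLimits.preservesLimitsOfShape
  haveI : LocallyOfFiniteType (Red.bc b G).hom :=
    MorphismProperty.pullback_snd (P := @LocallyOfFiniteType) _ _ inferInstance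
  haveI : QuasiCompact (Red.bc b G).hom := MorphismProperty.pullback_snd (P := @QuasiCompact) _ _ inferInstance
  haveI : LocallyOfFiniteType (Red.bc b G').hom :=
    MorphismProperty.pullback_snd (P := @LocallyOfFiniteType) _ _ inferInstance
  haveI : LocallyOfFiniteType (Red.bc b H').hom :=
    MorphismProperty.pullback_snd (P := @LocallyOfFiniteType) _ _ inferInstance
  haveI : QuasiCompact (Red.bc b H').hom := MorphismProperty.pullback_snd (P := @QuasiCompact) _ _ inferInstance
  haveI : ConnectedSpace ↥(Red.bc b (pullback c' u)).left :=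
    GeometricallyConnected.geometrically_connectedSpace _ _ _ (IsPullback.of_hasPullback (pullback c' u).hom b)
  haveI : ConnectedSpace ↥(Red.bc b H').left := 
    GeometricallyConnected.geometrically_connectedSpace _ _ _ (IsPullback.of_hasPullback H'.hom b)
  haveI : Flat ((Over.pullback b).map u).left :=
    MorphismProperty.of_isPullback (Charts.isPullback_map b u) inferInstance
  haveI : Surjective ((Over.pullback b).map u).left :=
    MorphismProperty.of_isPullback (Charts.isPullback_map b u) inferInstance
  haveI hconn : ConnectedSpace ↥(Red.bc b (pullback h' u)).left :=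
    connected_field ((Over.pullback b).map u) ((Over.pullback b).map h') ((Over.pullback b).map c')
      (fun T => ⟨1, MonObj.one_comp _⟩) ((Over.pullback b).map f) (by rw [← Functor.map_comp, hf])
      ((Over.pullback b).map (pullback.fst h' u)) ((Over.pullback b).map (pullback.snd h' u)) (hP.map _)
      ((Over.pullback b).map (pullback.fst c' u)) ((Over.pullback b).map (pullback.snd c' u)) (hQ.map _)
  have hrange : (pullback h' u).hom.base ⁻¹' {s} =
      Set.range (Limits.pullback.fst (pullback h' u).hom b).base := by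
    rw [Scheme.Pullback.range_fst]
    congr 1
    ext x
    constructor
    · intro hx
      obtain rfl : x = s := hx
      exact ⟨IsLocalRing.closedPoint _, S.fromSpecResidueField_apply x _⟩
    · rintro ⟨y, rfl⟩
      exact S.fromSpecResidueField_apply s _
  rw [hrange]
  haveI : ConnectedSpace ↥(Limits.pullback (pullback h' u).hom b) := hconn
  exact isConnected_range (Limits.pullback.fst (pullback h' u).hom b).continuous

end Base

end Groth.Agent.H13.PreimSmooth
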